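/-
Copyright (c) 2026 CFSG team. Released under Apache 2.0 license.
Authors: helper450 (text bb OMEGA #21087 (0) of helper778)
-/
import Cfsg.Agent.Omega.F4Leaf.HOne
import Cfsg.Agent.Omega.NSix.PtCen

/-!
# LeafF4, EXIT LEMMA #21087, step (0): centres of transvections

`Tr V c` : `O₂(C_G(c))` induces on `V` exactly one transvection, with centre `c`.
* `Tr.conj` : conjugates under `N_G(V)`;
* `Tr.symm` : if `O₂(C_G(d))` centralises `c`, then `O₂(C_G(c))` centralises `d`.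
* `even_of_pair`, `pair_eq` : elementary facts on pairs.
-/

set_option autoImplicit false
set_option linter.dupNamespace false

namespace Cfsg.Agent.Omega.F4Leaf.Exit.Tr

open Subgroup Cfsg Cfsg.Agent.ZN Cfsg.Agent.MinSimple.VModule
open Cfsg.Agent.Omega.S5.Def Cfsg.Agent.Omega.NSix.Base Cfsg.Agent.Omega.NSix.Basic

universe u

variable {G : Type u} [Group G]

/-- `O₂(C_G(c))` induces on `V` exactly one transvection, with centre `c`. -/
structure Tr (V : Subgroup G) (c : G) : Prop where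
  mem : c ∈ V
  norm : o2 (centralizer ({c} : Set G)) ≤ normalizer (V : Set G)
  act : ∀ x ∈ o2 (centralizer ({c} : Set G)), ∀ v ∈ V, x * v * x⁻¹ = v ∨ x * v * x⁻¹ = v * c
  mov : ∃ x ∈ o2 (centralizer ({c} : Set G)), ∃ v ∈ V, x * v * x⁻¹ ≠ v
  uni : ∀ x ∈ o2 (centralizer ({c} : Set G)), ∀ y ∈ o2 (centralizer ({c} : Set G)),
    (∃ v ∈ V, x * v * x⁻¹ ≠ v) → (∃ v ∈ V, y * v * y⁻¹ ≠ v) → ∀ v ∈ V, x * v * x⁻¹ = y * v * y⁻¹

theorem pull {g c x : G} (hx : x ∈ o2 (centralizer ({g * c * g⁻¹} : Set G))) :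
    g⁻¹ * x * g ∈ o2 (centralizer ({c} : Set G)) := by
  have h1 := NSix.PtCen.conj_o2_cent (g := g⁻¹) hx
  have e : g⁻¹ * (g * c * g⁻¹) * g⁻¹⁻¹ = c := by group
  rwa [e, inv_inv] at h1

theorem push {g c x : G} (hx : x ∈ o2 (centralizer ({c} : Set G))) :
    g * x * g⁻¹ ∈ o2 (centralizer ({g * c * g⁻¹} : Set G)) := NSix.PtCen.conj_o2_cent hx

theorem norm_conj {V : Subgroup G} {g v : G} (hg : g ∈ normalizer (V : Set G)) (hv : v ∈ V) : g * v * g⁻¹ ∈ V :=
  (mem_normalizer_iff.mp hg v).mp hv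

theorem norm_conj' {V : Subgroup G} {g v : G} (hg : g ∈ normalizer (V : Set G)) (hv : v ∈ V) : g⁻¹ * v * g ∈ V := by
  have h1 := norm_conj (inv_mem hg) hv
  rwa [inv_inv] at h1

theorem Tr.conj {V : Subgroup G} {c g : G} (h : Tr V c) (hg : g ∈ normalizer (V : Set G)) :
    Tr V (g * c * g⁻¹) where
  mem := norm_conj hg h.mem
  norm x hx := by
    have h1 := h.norm (pull hx)
    have h2 := mul_mem (mul_mem hg h1) (inv_mem hg)
    have e : g * (g⁻¹ * x * g) * g⁻¹ = x := by group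
    rwa [e] at h2
  act x hx v hv := by
    have e : x * v * x⁻¹ = g * (g⁻¹ * x * g * (g⁻¹ * v * g) * (g⁻¹ * x * g)⁻¹) * g⁻¹ := by group
    rcases h.act _ (pull hx) _ (norm_conj' hg hv) with h1 | h1
    · left
      rw [e, h1]
      group
    · right
      rw [e, h1]
      group
  mov := by
    obtain ⟨x, hx, v, hv, h1⟩ := h.mov
    refine ⟨g * x * g⁻¹, push hx, g * v * g⁻¹, norm_conj hg hv, fun h2 => h1 ?_⟩
    have e : g * x * g⁻¹ * (g * v * g⁻¹) * (g * x * g⁻¹)⁻¹ = g * (x * v * x⁻¹) * g⁻¹ := by group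
    rw [e] at h2
    exact mul_left_cancel (mul_right_cancel h2)
  uni x hx y hy h1 h2 v hv := by
    have key : ∀ x, (∃ v ∈ V, x * v * x⁻¹ ≠ v) → ∃ v ∈ V, g⁻¹ * x * g * v * (g⁻¹ * x * g)⁻¹ ≠ v := by
      rintro x ⟨w, hw, h3⟩
      refine ⟨g⁻¹ * w * g, norm_conj' hg hw, fun h4 => h3 ?_⟩
      have e : x * w * x⁻¹ = g * (g⁻¹ * x * g * (g⁻¹ * w * g) * (g⁻¹ * x * g)⁻¹) * g⁻¹ := by group
      rw [e, h4]
      group
    have h3 := h.uni _ (pull hx) _ (pull hy) (key x h1) (key y h2) _ (norm_conj' hg hv)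
    have e : ∀ x : G, x * v * x⁻¹ = g * (g⁻¹ * x * g * (g⁻¹ * v * g) * (g⁻¹ * x * g)⁻¹) * g⁻¹ := fun x => by group
    rw [e x, e y, h3]

/-- **The symmetry.** -/
theorem Tr.symm {V : Subgroup G} {c d : G} (hc : Tr V c) (hd : Tr V d) (hco : ∀ a ∈ V, ∀ b ∈ V, a * b = b * a)
    (hsq : ∀ a ∈ V, a * a = 1) (h0 : ∀ x ∈ o2 (centralizer ({d} : Set G)), x * c * x⁻¹ = c) :
    ∀ y ∈ o2 (centralizer ({c} : Set G)), y * d * y⁻¹ = d := by
  intro y hy
  by_contra hne
  have hyd : y * d * y⁻¹ = d * c := (hc.act y hy d hd.mem).resolve_left hne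
  have hyc : y * c * y⁻¹ = c := by
    have h1 : y * c = c * y := mem_centralizer_singleton_iff.mp (o2_le _ hy)
    rw [h1, mul_inv_cancel_right]
  obtain ⟨x, hx, v, hv, hxv⟩ := hd.mov
  have hxv' : x * v * x⁻¹ = v * d := (hd.act x hx v hv).resolve_left hxv
  have hxd : x * d * x⁻¹ = d := by
    have h1 : x * d = d * x := mem_centralizer_singleton_iff.mp (o2_le _ hx)
    rw [h1, mul_inv_cancel_right]
  have hxc : x * c * x⁻¹ = c := h0 x hx
  have hxC : x ∈ centralizer ({c} : Set G) := by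
    rw [mem_centralizer_singleton_iff, ← mul_inv_eq_iff_eq_mul]
    exact hxc
  have hz : y * (x * y⁻¹ * x⁻¹) ∈ o2 (centralizer ({c} : Set G)) :=
    mul_mem hy (norm_conj (le_normalizer_o2 _ hxC) (inv_mem hy))
  -- inverse actions
  have iyc : y⁻¹ * c * y = c := by
    calc y⁻¹ * c * y = y⁻¹ * (y * c * y⁻¹) * y := by rw [hyc]
      _ = c := by group
  have hcc : c * c = 1 := hsq c hc.mem
  have iyd : y⁻¹ * d * y = d * c := by
    have h1 : y * (d * c) * y⁻¹ = d := by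
      calc y * (d * c) * y⁻¹ = (y * d * y⁻¹) * (y * c * y⁻¹) := by group
        _ = d * c * c := by rw [hyd, hyc]
        _ = d := by rw [mul_assoc, hcc, mul_one]
    calc y⁻¹ * d * y = y⁻¹ * (y * (d * c) * y⁻¹) * y := by rw [h1]
      _ = d * c := by group
  have ixd : x⁻¹ * d * x = d := by
    calc x⁻¹ * d * x = x⁻¹ * (x * d * x⁻¹) * x := by rw [hxd]
      _ = d := by group
  have hdd : d * d = 1 := hsq d hd.mem
  have ixv : x⁻¹ * v * x = v * d := by
    have h1 : x * (v * d) * x⁻¹ = v := by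
      calc x * (v * d) * x⁻¹ = (x * v * x⁻¹) * (x * d * x⁻¹) := by group
        _ = v * d * d := by rw [hxv', hxd]
        _ = v := by rw [mul_assoc, hdd, mul_one]
    calc x⁻¹ * v * x = x⁻¹ * (x * (v * d) * x⁻¹) * x := by rw [h1]
      _ = v * d := by group
  -- the action of `z` on `d`
  have hzd : y * (x * y⁻¹ * x⁻¹) * d * (y * (x * y⁻¹ * x⁻¹))⁻¹ = d := by
    calc y * (x * y⁻¹ * x⁻¹) * d * (y * (x * y⁻¹ * x⁻¹))⁻¹
        = y * (x * (y⁻¹ * (x⁻¹ * d * x) * y) * x⁻¹) * y⁻¹ := by group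
      _ = y * (x * (d * c) * x⁻¹) * y⁻¹ := by rw [ixd, iyd]
      _ = y * ((x * d * x⁻¹) * (x * c * x⁻¹)) * y⁻¹ := by group
      _ = y * (d * c) * y⁻¹ := by rw [hxd, hxc]
      _ = (y * d * y⁻¹) * (y * c * y⁻¹) := by group
      _ = d * c * c := by rw [hyd, hyc]
      _ = d := by rw [mul_assoc, hcc, mul_one]
  -- the action of `z` on `v`
  have hzv : y * (x * y⁻¹ * x⁻¹) * v * (y * (x * y⁻¹ * x⁻¹))⁻¹ = v * c := by
    have e1 : y * (x * y⁻¹ * x⁻¹) * v * (y * (x * y⁻¹ * x⁻¹))⁻¹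
        = y * (x * (y⁻¹ * (x⁻¹ * v * x) * y) * x⁻¹) * y⁻¹ := by group
    have e2 : y⁻¹ * (v * d) * y = (y⁻¹ * v * y) * (y⁻¹ * d * y) := by group
    rw [e1, ixv, e2, iyd]
    have h3 : y⁻¹ * v * y = v ∨ y⁻¹ * v * y = v * c := by
      have := hc.act y⁻¹ (inv_mem hy) v hv
      rwa [inv_inv] at this
    rcases h3 with h3 | h3
    · have h4 : y * v * y⁻¹ = v := by
        calc y * v * y⁻¹ = y * (y⁻¹ * v * y) * y⁻¹ := by rw [h3]
          _ = v := by group
      calc y * (x * (y⁻¹ * v * y * (d * c)) * x⁻¹) * y⁻¹ = y * (x * (v * (d * c)) * x⁻¹) * y⁻¹ := by rw [h3]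
        _ = y * ((x * v * x⁻¹) * (x * d * x⁻¹) * (x * c * x⁻¹)) * y⁻¹ := by group
        _ = y * (v * d * d * c) * y⁻¹ := by rw [hxv', hxd, hxc]
        _ = y * (v * (d * d) * c) * y⁻¹ := by rw [mul_assoc v d d]
        _ = (y * v * y⁻¹) * (y * c * y⁻¹) := by rw [hdd, mul_one]; group
        _ = v * c := by rw [h4, hyc]
    · have h4 : y * v * y⁻¹ = v * c := by
        have h5 : y * (v * c) * y⁻¹ = v := by
          calc y * (v * c) * y⁻¹ = y * (y⁻¹ * v * y) * y⁻¹ := by rw [h3]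
            _ = v := by group
        have h6 : y * (v * c) * y⁻¹ = (y * v * y⁻¹) * c := by
          calc y * (v * c) * y⁻¹ = (y * v * y⁻¹) * (y * c * y⁻¹) := by group
            _ = _ := by rw [hyc]
        calc y * v * y⁻¹ = (y * v * y⁻¹) * c * c := by rw [mul_assoc (y * v * y⁻¹), hcc, mul_one]
          _ = v * c := by rw [← h6, h5]
      calc y * (x * (y⁻¹ * v * y * (d * c)) * x⁻¹) * y⁻¹ = y * (x * (v * c * (d * c)) * x⁻¹) * y⁻¹ := by rw [h3]
        _ = y * ((x * v * x⁻¹) * (x * c * x⁻¹) * ((x * d * x⁻¹) * (x * c * x⁻¹))) * y⁻¹ := by group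
        _ = y * (v * d * c * (d * c)) * y⁻¹ := by rw [hxv', hxd, hxc]
        _ = y * (v * (d * d) * (c * c)) * y⁻¹ := by
            have e3 : v * d * c * (d * c) = v * (d * d) * (c * c) := by
              calc v * d * c * (d * c) = v * d * (c * d) * c := by group
                _ = v * d * (d * c) * c := by rw [hco c hc.mem d hd.mem]
                _ = _ := by group
            rw [e3]
        _ = y * v * y⁻¹ := by rw [hdd, hcc, mul_one, mul_one]
        _ = v * c := h4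
  have hc1 : c ≠ 1 := by
    rintro rfl
    exact hne (by rw [hyd, mul_one])
  have h5 := hc.uni _ hz y hy ⟨v, hv, fun h6 => hc1 (by
    rw [hzv] at h6
    exact mul_eq_left.mp h6)⟩ ⟨d, hd.mem, hne⟩ d hd.mem
  rw [hzd] at h5
  exact hne h5.symm

/-- A 2-subgroup of `C` is conjugate in `C` into a 2-subgroup of odd index. -/
theorem exists_conj [Finite G] {C S X : Subgroup G} (hX : X ≤ C) (hS : IsPGroup 2 S) (hX2 : IsPGroup 2 X)
    (hi : ¬ 2 ∣ S.relIndex C) : ∃ c ∈ C, ∀ x ∈ X, c * x * c⁻¹ ∈ S := by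
  have hf : Fact (Nat.Prime 2) := ⟨Nat.prime_two⟩
  have hS' : IsPGroup 2 (S.subgroupOf C) := hS.comap_of_injective C.subtype Subtype.val_injective
  have hX' : IsPGroup 2 (X.subgroupOf C) := hX2.comap_of_injective C.subtype Subtype.val_injective
  obtain ⟨Q, hQ⟩ := hX'.exists_le_sylow
  obtain ⟨c, hc⟩ := MulAction.exists_smul_eq C Q (hS'.toSylow hi)
  refine ⟨c, c.2, fun y hy => ?_⟩
  have h1 : (⟨y, hX hy⟩ : C) ∈ (Q : Subgroup C) := hQ (Subgroup.mem_subgroupOf.2 hy)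
  have h2 : c * ⟨y, hX hy⟩ * c⁻¹ ∈ ((c • Q : Sylow 2 C) : Subgroup C) := by
    have : c * ⟨y, hX hy⟩ * c⁻¹ = (MulAut.conj c) • (⟨y, hX hy⟩ : C) := rfl
    rw [this]
    exact Subgroup.smul_mem_pointwise_smul _ _ _ h1
  rw [hc] at h2
  exact h2

/-! ### Pairs -/

section pairs

variable {n : ℕ} {V L : Subgroup G} {ε : (Fin n → ZMod 2) → G}

/-- Two equal pairs have the same letters (`5 ≤ n`). -/
theorem pair_eq (h : EvenSet n V L ε) (hn : 5 ≤ n) {i j k l : Fin n} (hij : i ≠ j)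
    (he : rr ε i j = rr ε k l) : (k = i ∧ l = j) ∨ (k = j ∧ l = i) := by
  have h1 : ε (Pi.single i 1 + Pi.single j 1) = ε (Pi.single k 1 + Pi.single l 1) := by
    rw [h.add, h.add]
    exact he
  obtain ⟨o, ho⟩ : ∃ o : Fin n, o ∉ ({i, j, k, l} : Finset (Fin n)) := by
    by_contra hno
    push Not at hno
    have h2 : (Finset.univ : Finset (Fin n)) ⊆ {i, j, k, l} := fun x _ => hno x
    have h3 := Finset.card_le_card h2
    have h4 : ({i, j, k, l} : Finset (Fin n)).card ≤ 4 := Finset.card_le_four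
    rw [Finset.card_univ, Fintype.card_fin] at h3
    omega
  simp only [Finset.mem_insert, Finset.mem_singleton, not_or] at ho
  obtain ⟨o1, o2, o3, o4⟩ := ho
  have h2 : (Pi.single i 1 + Pi.single j 1 : Fin n → ZMod 2) = Pi.single k 1 + Pi.single l 1 := by
    rcases h.eq_iff.mp h1 with h2 | h2
    · exact h2
    · exfalso
      have h3 := congrFun h2 o
      simp only [Pi.add_apply, Pi.one_apply, Pi.single_eq_of_ne o1, Pi.single_eq_of_ne o2, Pi.single_eq_of_ne o3,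
        Pi.single_eq_of_ne o4] at h3
      exact absurd h3 (by decide)
  have hi := congrFun h2 i
  have hj := congrFun h2 j
  simp only [Pi.add_apply, Pi.single_apply, if_true, if_neg hij, if_neg hij.symm] at hi hj
  by_cases e1 : i = k
  · by_cases e2 : i = l
    · exfalso
      subst e1
      subst e2
      simp only [if_true] at hi
      exact absurd hi (by decide)
    · left
      refine ⟨e1.symm, ?_⟩
      subst e1
      by_contra e3
      rw [if_neg hij.symm, if_neg (fun h4 => e3 h4.symm)] at hj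
      exact absurd hj (by decide)
  · by_cases e2 : i = l
    · right
      refine ⟨?_, e2.symm⟩
      subst e2
      by_contra e3
      rw [if_neg (fun h4 => e3 h4.symm), if_neg hij.symm] at hj
      exact absurd hj (by decide)
    · exfalso
      rw [if_neg e1, if_neg e2] at hi
      exact absurd hi (by decide)

end pairs

end Cfsg.Agent.Omega.F4Leaf.Exit.Tr
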