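/-
Copyright (c) 2026 CFSG team. Released under Apache 2.0 license.
Authors: helper450 (text bb OMEGA #21087 (0) of helper778)
-/
import Cfsg.Agent.Omega.F4Leaf.Exit.Tr
import Cfsg.Agent.Omega.F4Leaf.Pos

/-!
# LeafF4, EXIT LEMMA #21087, step (0): `N_G(V)` permutes the letters

Over `Pos.Sit` (`m ≥ 2`), assuming that `O₂(C_G(r_ij))` induces `(i j)` (`Mov`):
* `Sit.count` : at most `2^m + 1` letters: commuting centres;
* `Sit.duad` : `N_G(V)` maps pairs to pairs;
* `Sit.exists_perm` : an element of `N_G(V)` acts on `A` as a permutation;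
* `Sit.norm_A`, `Sit.norm_cv` : `N_G(V)` normalises `A` and `V₀`;
* `Sit.transv` : every transvection of `N_G(V)` on `V` is a transposition.
-/

set_option autoImplicit false
set_option linter.dupNamespace false

namespace Cfsg.Agent.Omega.F4Leaf.Exit.Dua

open Subgroup Pointwise Cfsg Cfsg.Agent Cfsg.Agent.Omega.MinPar
open Cfsg.Agent.ZN (o2 zc zl)
open Cfsg.Agent.Omega.FrameFF (cv Single Free)
open Cfsg.Agent.Omega.S5.Def Cfsg.Agent.Omega.S5.Syl Cfsg.Agent.Omega.F4Leaf.Def
open Cfsg.Agent.Omega.NSix.Base Cfsg.Agent.Omega.NSix.Basic Cfsg.Agent.Omega.F4Leaf.Pos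
open Cfsg.Agent.Omega.F4Leaf.Exit.Tr
open Cfsg.Agent.MinSimple.VModule (o2_isPGroup o2_le le_o2 le_normalizer_o2 le_normalizer_zl)

universe u

variable {G : Type u} [Group G]

/-- `O₂(C_G(r_ij))` induces the transposition `(i j)`. -/
def Mov {n : ℕ} (ε : (Fin n → ZMod 2) → G) : Prop :=
  ∀ i j : Fin n, i ≠ j → ∃ w ∈ o2 (NN ε i j), Acts ε w (Equiv.swap i j)

theorem mov_of {n : ℕ} {A P : Subgroup G} {ε : (Fin n → ZMod 2) → G} (hE : EvenSet n A P ε) {i j : Fin n}
    (hij : i ≠ j) {w : G} (hw : w ∈ o2 (NN ε i j)) (hs : Acts ε w (Equiv.swap i j)) : Mov ε := by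
  intro k l hkl
  obtain ⟨σ, h1, h2, -⟩ := exists_perm hij hkl
  obtain ⟨g, -, hσ⟩ := hE.full σ
  refine ⟨g * w * g⁻¹, ?_, ?_⟩
  · have h3 := push (g := g) hw
    rw [rr_conj hσ, h1, h2] at h3
    exact h3
  · have h3 := hσ.conj hs
    have e : σ * Equiv.swap i j * σ⁻¹ = Equiv.swap k l := by
      rw [← h1, ← h2, Equiv.swap_apply_apply]
    rwa [e] at h3

/-- Enumeration of a set of `2 t` letters by pairs. -/
theorem pairing {α : Type*} [DecidableEq α] (T : Finset α) (t : ℕ) (h : T.card = 2 * t) :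
    ∃ p : Fin t ⊕ Fin t → α, Function.Injective p ∧ ∀ a, p a ∈ T := by
  have e1 : Fin t ⊕ Fin t ≃ Fin (t + t) := finSumFinEquiv
  have e2 : T ≃ Fin (t + t) := T.equivFinOfCardEq (by omega)
  refine ⟨fun a => (e2.symm (e1 a)).1, fun a b hab => ?_, fun a => (e2.symm (e1 a)).2⟩
  exact e1.injective (e2.symm.injective (Subtype.ext hab))

variable [Finite G] {S : Sylow 2 G} {P : Subgroup G} {m : ℕ} {A : Subgroup G} {ε : (Fin (2 ^ m + 1) → ZMod 2) → G}

theorem Sit.five (h : Sit S P m A ε) : 5 ≤ 2 ^ m + 1 := by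
  have h1 : 2 ^ 2 ≤ 2 ^ m := Nat.pow_le_pow_right (by norm_num) h.m2
  omega

theorem Sit.S_le (h : Sit S P m A ε) : (S : Subgroup G) ≤ normalizer (zl (S : Subgroup G) P : Set G) :=
  h.par.le.trans (le_normalizer_zl _ _)

/-- An element of `V` and a pair. -/
theorem Sit.move_iff (h : Sit S P m A ε) (hw : Mov ε) {i j : Fin (2 ^ m + 1)} (hij : i ≠ j) {v : G}
    (hv : v ∈ cv (S : Subgroup G) P) (x : Fin (2 ^ m + 1) → ZMod 2) :
    (∀ y ∈ o2 (NN ε i j), y * (v * ε x) * y⁻¹ = v * ε x) ↔ x i = x j := by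
  have hE := h.split.even
  have hsw : x ∘ (Equiv.swap i j).symm = x ↔ x i = x j := by
    rw [Equiv.symm_swap]
    constructor
    · intro h1
      have h2 := congrFun h1 i
      simp only [Function.comp, Equiv.swap_apply_left] at h2
      exact h2.symm
    · intro h1
      funext k
      simp only [Function.comp]
      by_cases hk : k = i
      · rw [hk, Equiv.swap_apply_left, h1]
      by_cases hk' : k = j
      · rw [hk', Equiv.swap_apply_right, h1]
      · rw [Equiv.swap_apply_of_ne_of_ne hk hk']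
  have hcomp : ∀ y ∈ o2 (NN ε i j), y * (v * ε x) * y⁻¹ = v * (y * ε x * y⁻¹) := by
    intro y hy
    calc y * (v * ε x) * y⁻¹ = y * v * ε x * y⁻¹ := by group
      _ = v * y * ε x * y⁻¹ := by rw [h.comm_V0 hij hy hv]
      _ = _ := by group
  constructor
  · intro h1
    obtain ⟨w, hw1, hw2⟩ := hw i j hij
    have h2 := h1 w hw1
    rw [hcomp w hw1] at h2
    have h3 : w * ε x * w⁻¹ = ε x := mul_left_cancel h2
    rw [hw2 x] at h3
    rcases hE.eq_iff.mp h3 with h4 | h4
    · exact hsw.mp h4
    · exfalso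
      -- `x ∘ swap = x + 1` is impossible: look at a third letter
      obtain ⟨o, ho⟩ : ∃ o : Fin (2 ^ m + 1), o ∉ ({i, j} : Finset (Fin (2 ^ m + 1))) := by
        by_contra hno
        push Not at hno
        have h5 := Finset.card_le_card (fun x _ => hno x : (Finset.univ : Finset (Fin (2 ^ m + 1))) ⊆ {i, j})
        have h6 : ({i, j} : Finset (Fin (2 ^ m + 1))).card ≤ 2 := Finset.card_le_two
        rw [Finset.card_univ, Fintype.card_fin] at h5
        have := Sit.five h
        omega
      simp only [Finset.mem_insert, Finset.mem_singleton, not_or] at ho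
      have h5 := congrFun h4 o
      rw [Equiv.symm_swap] at h5
      simp only [Function.comp, Equiv.swap_apply_of_ne_of_ne ho.1 ho.2, Pi.add_apply, Pi.one_apply] at h5
      have h6 : (1 : ZMod 2) = 0 := by
        have := congrArg (fun t => t - x o) h5
        simpa using this.symm
      exact absurd h6 (by decide)
  · intro h1 y hy
    rw [hcomp y hy]
    rcases h.acts hij hy with h2 | h2
    · rw [h2 x]
      rfl
    · rw [h2 x, hsw.mpr h1]

/-- The pairs are centres. -/
theorem Sit.tr (h : Sit S P m A ε) (hw : Mov ε) {i j : Fin (2 ^ m + 1)} (hij : i ≠ j) :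
    Tr (zl (S : Subgroup G) P) (rr ε i j) where
  mem := h.split.A_le (rr_mem h.split.even i j)
  norm := (h.o2_le_P hij).trans (le_normalizer_zl _ _)
  act _ hx _ hv := h.conj_V hij hx hv
  mov := by
    obtain ⟨w, hw1, hw2⟩ := hw i j hij
    refine ⟨w, hw1, zz ε i, h.split.A_le (zz_mem h.split.even i), fun h1 => hij ?_⟩
    rw [zz_conj hw2, Equiv.swap_apply_left] at h1
    exact (h.split.even.single_inj h.three h1).symm
  uni x hx y hy h1 h2 v hv := by
    have key : ∀ x ∈ o2 (NN ε i j), (∃ v ∈ zl (S : Subgroup G) P, x * v * x⁻¹ ≠ v) →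
        Acts ε x (Equiv.swap i j) := by
      intro x hx h1
      refine (h.acts hij hx).resolve_left fun h2 => ?_
      obtain ⟨v, hv, h3⟩ := h1
      obtain ⟨c, hc, a, ha, rfl⟩ := h.mul_eq hv
      obtain ⟨y, rfl⟩ := h.split.even.surj a ha
      apply h3
      calc x * (c * ε y) * x⁻¹ = x * c * ε y * x⁻¹ := by group
        _ = c * x * ε y * x⁻¹ := by rw [h.comm_V0 hij hx hc]
        _ = c * (x * ε y * x⁻¹) := by group
        _ = c * ε y := by rw [h2 y]; rfl
    obtain ⟨c, hc, a, ha, rfl⟩ := h.mul_eq hv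
    obtain ⟨z, rfl⟩ := h.split.even.surj a ha
    have e : ∀ x ∈ o2 (NN ε i j), (∃ v ∈ zl (S : Subgroup G) P, x * v * x⁻¹ ≠ v) →
        x * (c * ε z) * x⁻¹ = c * ε (z ∘ (Equiv.swap i j).symm) := by
      intro x hx h1
      calc x * (c * ε z) * x⁻¹ = x * c * ε z * x⁻¹ := by group
        _ = c * x * ε z * x⁻¹ := by rw [h.comm_V0 hij hx hc]
        _ = c * (x * ε z * x⁻¹) := by group
        _ = _ := by rw [key x hx h1 z]
    rw [e x hx h1, e y hy h2]

/-- A transvection which acts as a permutation is a transposition. -/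
theorem Sit.of_acts (h : Sit S P m A ε) {x c : G} {σ : Equiv.Perm (Fin (2 ^ m + 1))} (hσ : Acts ε x σ)
    (hx : ∀ v ∈ cv (S : Subgroup G) P, x * v = v * x)
    (hc : ∀ v ∈ zl (S : Subgroup G) P, x * v * x⁻¹ = v ∨ x * v * x⁻¹ = v * c)
    (hm : ∃ v ∈ zl (S : Subgroup G) P, x * v * x⁻¹ ≠ v) :
    ∃ i j, i ≠ j ∧ c = rr ε i j ∧ Acts ε x (Equiv.swap i j) := by
  have hE := h.split.even
  have key : ∀ i, σ i ≠ i → c = rr ε i (σ i) := by
    intro i hi
    have h1 := zz_conj hσ i
    rcases hc (zz ε i) (h.split.A_le (zz_mem hE i)) with h2 | h2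
    · exfalso
      rw [h1] at h2
      exact hi (hE.single_inj h.three h2)
    · rw [h1] at h2
      unfold rr
      rw [h2, ← mul_assoc, zz_sq hE, one_mul]
  obtain ⟨i, hi⟩ : ∃ i, σ i ≠ i := by
    by_contra hall
    push Not at hall
    have h1 : σ = 1 := Equiv.ext hall
    obtain ⟨v, hv, h2⟩ := hm
    obtain ⟨a, ha, b, hb, rfl⟩ := h.mul_eq hv
    obtain ⟨y, rfl⟩ := hE.surj b hb
    apply h2
    calc x * (a * ε y) * x⁻¹ = x * a * ε y * x⁻¹ := by group
      _ = a * x * ε y * x⁻¹ := by rw [hx a ha]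
      _ = a * (x * ε y * x⁻¹) := by group
      _ = a * ε y := by rw [hσ y, h1]; rfl
  refine ⟨i, σ i, hi.symm, key i hi, ?_⟩
  have h1 : ∀ k, σ k ≠ k → (k = i ∧ σ k = σ i) ∨ (k = σ i ∧ σ k = i) := by
    intro k hk
    have h2 : rr ε i (σ i) = rr ε k (σ k) := by rw [← key i hi, ← key k hk]
    exact pair_eq hE (Sit.five h) hi.symm h2
  have h2 : σ (σ i) = i := by
    rcases h1 (σ i) (fun h3 => hi (σ.injective h3)) with h3 | h3
    · exact absurd h3.1 hi
    · exact h3.2
  have h3 : σ = Equiv.swap i (σ i) := by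
    ext k
    congr 1
    by_cases hk : σ k = k
    · rw [Equiv.swap_apply_of_ne_of_ne]
      · exact hk
      · rintro rfl
        exact hi hk
      · rintro rfl
        exact hi (σ.injective hk)
    · rcases h1 k hk with h4 | h4
      · rw [h4.1, Equiv.swap_apply_left]
      · rw [h4.1, Equiv.swap_apply_right, h2]
  rw [h3] at hσ
  exact hσ

/-- A transvection in `S` is a transposition. -/
theorem Sit.of_S (h : Sit S P m A ε) {x c : G} (hx : x ∈ (S : Subgroup G))
    (hc : ∀ v ∈ zl (S : Subgroup G) P, x * v * x⁻¹ = v ∨ x * v * x⁻¹ = v * c)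
    (hm : ∃ v ∈ zl (S : Subgroup G) P, x * v * x⁻¹ ≠ v) :
    ∃ i j, i ≠ j ∧ c = rr ε i j ∧ Acts ε x (Equiv.swap i j) := by
  obtain ⟨σ, hσ⟩ := h.split.even.perm x (h.par.le hx)
  exact Sit.of_acts h hσ (fun v hv => h.V0_comm hv (h.par.le hx)) hc hm

/-- **Commuting centres.** -/
theorem Sit.count (h : Sit S P m A ε) {ι : Type*} [Fintype ι] (F : ι → G) (hF : Function.Injective F)
    (hT : ∀ a, Tr (zl (S : Subgroup G) P) (F a))
    (hc : ∀ a b, ∀ x ∈ o2 (centralizer ({F a} : Set G)), x * F b * x⁻¹ = F b) :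
    2 * Fintype.card ι ≤ 2 ^ m + 1 := by
  classical
  have hE := h.split.even
  have hcen : ∀ a b, o2 (centralizer ({F a} : Set G)) ≤ centralizer ({F b} : Set G) := by
    intro a b x hx
    rw [mem_centralizer_singleton_iff, ← mul_inv_eq_iff_eq_mul]
    exact hc a b x hx
  have hD : IsPGroup 2 ((⨆ a ∈ (Finset.univ : Finset ι), o2 (centralizer ({F a} : Set G)) : Subgroup G)) :=
    HOne.isPGroup_iSup _ _ (fun _ _ => o2_isPGroup _) fun a _ b _ => (hcen a b).trans (le_normalizer_o2 _)
  have hDn : (⨆ a ∈ (Finset.univ : Finset ι), o2 (centralizer ({F a} : Set G)) : Subgroup G) ≤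
      normalizer (zl (S : Subgroup G) P : Set G) := iSup₂_le fun a _ => (hT a).norm
  obtain ⟨g, hg, hgD⟩ := exists_conj hDn S.isPGroup' hD
    (MinSimple.Basic.not_dvd_relIndex S (Sit.S_le h))
  have hmem : ∀ a, ∀ x ∈ o2 (centralizer ({F a} : Set G)), g * x * g⁻¹ ∈ (S : Subgroup G) := fun a x hx =>
    hgD x ((le_iSup₂ (f := fun a (_ : a ∈ (Finset.univ : Finset ι)) => o2 (centralizer ({F a} : Set G))) a
      (Finset.mem_univ a)) hx)
  have key : ∀ a, ∃ i j, i ≠ j ∧ g * F a * g⁻¹ = rr ε i j ∧
      ∃ x ∈ o2 (centralizer ({F a} : Set G)), Acts ε (g * x * g⁻¹) (Equiv.swap i j) := by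
    intro a
    obtain ⟨x, hx, v, hv, hne⟩ := (hT a).mov
    have hT' := (hT a).conj hg
    obtain ⟨i, j, h1, h2, h3⟩ := Sit.of_S h (hmem a x hx) (hT'.act _ (push hx))
      ⟨g * v * g⁻¹, norm_conj hg hv, fun h2 => hne (by
        have e : g * x * g⁻¹ * (g * v * g⁻¹) * (g * x * g⁻¹)⁻¹ = g * (x * v * x⁻¹) * g⁻¹ := by group
        rw [e] at h2
        exact mul_left_cancel (mul_right_cancel h2))⟩
    exact ⟨i, j, h1, h2, x, hx, h3⟩
  choose p q hpq hr x hx hs using key
  -- the pairs are disjoint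
  have hdis : ∀ a b, (p a = p b ∨ p a = q b ∨ q a = p b ∨ q a = q b) → a = b := by
    intro a b hab
    have h1 : g * x a * g⁻¹ * rr ε (p b) (q b) * (g * x a * g⁻¹)⁻¹ = rr ε (p b) (q b) := by
      rw [← hr b]
      have e : g * x a * g⁻¹ * (g * F b * g⁻¹) * (g * x a * g⁻¹)⁻¹ = g * (x a * F b * (x a)⁻¹) * g⁻¹ := by group
      rw [e, hc a b _ (hx a)]
    rw [rr_conj (hs a)] at h1
    have h2 := pair_eq hE (Sit.five h) (i := p b) (j := q b) (hpq b) h1.symm
    have h3 : (p a = p b ∧ q a = q b) ∨ (p a = q b ∧ q a = p b) := by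
      rcases hab with h4 | h4 | h4 | h4
      · left
        refine ⟨h4, ?_⟩
        rw [← h4, Equiv.swap_apply_left] at h2
        rcases h2 with h5 | h5
        · exact absurd h5.1.symm (hpq a)
        · exact h5.1
      · right
        refine ⟨h4, ?_⟩
        rw [← h4, Equiv.swap_apply_left] at h2
        rcases h2 with h5 | h5
        · exact absurd h5.2.symm (hpq a)
        · exact h5.2
      · right
        refine ⟨?_, h4⟩
        rw [← h4, Equiv.swap_apply_right] at h2
        rcases h2 with h5 | h5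
        · exact absurd h5.1 (hpq a)
        · exact h5.1
      · left
        refine ⟨?_, h4⟩
        rw [← h4, Equiv.swap_apply_right] at h2
        rcases h2 with h5 | h5
        · exact absurd h5.2 (hpq a)
        · exact h5.2
    apply hF
    have h4 : g * F a * g⁻¹ = g * F b * g⁻¹ := by
      rw [hr a, hr b]
      rcases h3 with h5 | h5
      · rw [h5.1, h5.2]
      · rw [h5.1, h5.2, rr_symm hE]
    exact mul_left_cancel (mul_right_cancel h4)
  have hinj : Function.Injective (Sum.elim p q : ι ⊕ ι → Fin (2 ^ m + 1)) := by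
    rintro (a | a) (b | b) hab
    · exact congrArg Sum.inl (hdis a b (Or.inl hab))
    · exfalso
      have h1 := hdis a b (Or.inr (Or.inl hab))
      subst h1
      exact hpq a hab
    · exfalso
      have h1 := hdis a b (Or.inr (Or.inr (Or.inl hab)))
      subst h1
      exact hpq a hab.symm
    · exact congrArg Sum.inr (hdis a b (Or.inr (Or.inr (Or.inr hab))))
  have h1 := Fintype.card_le_of_injective _ hinj
  rw [Fintype.card_sum, Fintype.card_fin] at h1
  omega

/-- **A centre is a pair.** -/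
theorem Sit.pair_of_tr (h : Sit S P m A ε) (hw : Mov ε) {c : G} (hc : Tr (zl (S : Subgroup G) P) c) :
    ∃ k l, k ≠ l ∧ c = rr ε k l := by
  classical
  have hE := h.split.even
  have hm := h.m2
  by_contra hne
  push Not at hne
  -- even representative
  obtain ⟨v, hv, a, ha, hva⟩ := h.mul_eq hc.mem
  obtain ⟨x₀, hx₀⟩ := hE.surj a ha
  have hcard : ∀ x : Fin (2 ^ m + 1) → ZMod 2, (Finset.univ.filter fun i => x i = 1).card +
      (Finset.univ.filter fun i => ¬ x i = 1).card = 2 ^ m + 1 := by
    intro x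
    rw [Finset.card_filter_add_card_filter_not, Finset.card_univ, Fintype.card_fin]
  have h2m : 2 ^ m = 2 * 2 ^ (m - 1) := by
    rw [← pow_succ']
    congr 1
    omega
  obtain ⟨x, hx, t, ht⟩ : ∃ x, ε x = a ∧ ∃ t, (Finset.univ.filter fun i => x i = 1).card = 2 * t := by
    rcases Nat.even_or_odd (Finset.univ.filter fun i => x₀ i = 1).card with h1 | h1
    · obtain ⟨t, ht⟩ := h1
      exact ⟨x₀, hx₀, t, by omega⟩
    · refine ⟨x₀ + 1, ?_, ?_⟩
      · rw [hE.add, hE.one, mul_one, hx₀]
      · have e : (Finset.univ.filter fun i => (x₀ + 1) i = 1) = Finset.univ.filter fun i => ¬ x₀ i = 1 := by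
          apply Finset.filter_congr
          intro i _
          rw [Pi.add_apply, Pi.one_apply]
          rcases (show ∀ y : ZMod 2, y = 0 ∨ y = 1 by decide) (x₀ i) with h2 | h2
          · rw [h2]
            decide
          · rw [h2]
            decide
        rw [e]
        obtain ⟨t, ht⟩ := h1
        have h3 := hcard x₀
        exact ⟨2 ^ (m - 1) - t, by omega⟩
  obtain ⟨t', ht'⟩ : ∃ t', (Finset.univ.filter fun i => ¬ x i = 1).card = 2 * t' + 1 := by
    have h3 := hcard x
    exact ⟨2 ^ (m - 1) - t, by omega⟩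
  obtain ⟨T', hT', hT'c⟩ := Finset.exists_subset_card_eq (s := Finset.univ.filter fun i => ¬ x i = 1)
    (n := 2 * t') (by omega)
  obtain ⟨p, hp, hpT⟩ := pairing _ t ht
  obtain ⟨q, hq, hqT⟩ := pairing _ t' hT'c
  have hp1 : ∀ b, x (p b) = 1 := fun b => (Finset.mem_filter.mp (hpT b)).2
  have hq1 : ∀ b, x (q b) = 0 := fun b => by
    have h1 := (Finset.mem_filter.mp (hT' (hqT b))).2
    rcases (show ∀ y : ZMod 2, y = 0 ∨ y = 1 by decide) (x (q b)) with h2 | h2
    · exact h2
    · exact absurd h2 h1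
  -- the pairs
  let f : Fin t ⊕ Fin t' → Fin (2 ^ m + 1) := fun b => b.elim (fun b => p (Sum.inl b)) (fun b => q (Sum.inl b))
  let f' : Fin t ⊕ Fin t' → Fin (2 ^ m + 1) := fun b => b.elim (fun b => p (Sum.inr b)) (fun b => q (Sum.inr b))
  have hne01 : (0 : ZMod 2) ≠ 1 := by decide
  have hff : ∀ b, f b ≠ f' b := by
    rintro (b | b) h1
    · exact Sum.inl_ne_inr (hp h1)
    · exact Sum.inl_ne_inr (hq h1)
  have hxf : ∀ b, x (f b) = x (f' b) := by
    rintro (b | b)
    · exact (hp1 _).trans (hp1 _).symm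
    · exact (hq1 _).trans (hq1 _).symm
  have hf : ∀ b b', (f b = f b' ∨ f b = f' b' ∨ f' b = f b' ∨ f' b = f' b') → b = b' := by
    rintro (b | b) (b' | b') h1
    · have h2 : b = b' := by
        rcases h1 with h1 | h1 | h1 | h1
        · exact Sum.inl_injective (hp h1)
        · exact absurd (hp h1) Sum.inl_ne_inr
        · exact absurd (hp h1).symm Sum.inl_ne_inr
        · exact Sum.inr_injective (hp h1)
      rw [h2]
    · exfalso
      rcases h1 with h1 | h1 | h1 | h1 <;>
      · have h2 := congrArg x h1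
        apply hne01
        first
          | exact ((hq1 _).symm.trans h2.symm).trans (hp1 _)
    · exfalso
      rcases h1 with h1 | h1 | h1 | h1 <;>
      · have h2 := congrArg x h1
        apply hne01
        first
          | exact ((hq1 _).symm.trans h2).trans (hp1 _)
    · have h2 : b = b' := by
        rcases h1 with h1 | h1 | h1 | h1
        · exact Sum.inl_injective (hq h1)
        · exact absurd (hq h1) Sum.inl_ne_inr
        · exact absurd (hq h1).symm Sum.inl_ne_inr
        · exact Sum.inr_injective (hq h1)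
      rw [h2]
  -- the centres
  have hcx : c = v * ε x := by rw [hva, hx]
  have h1 : ∀ b, ∀ y ∈ o2 (NN ε (f b) (f' b)), y * c * y⁻¹ = c := by
    intro b
    rw [hcx]
    exact (Sit.move_iff h hw (hff b) hv x).mpr (hxf b)
  have hco : ∀ a ∈ zl (S : Subgroup G) P, ∀ b ∈ zl (S : Subgroup G) P, a * b = b * a :=
    fun a ha b hb => h.V_comm ha hb
  have hsq : ∀ a ∈ zl (S : Subgroup G) P, a * a = 1 := fun a ha => by rw [← pow_two]; exact h.V_sq ha
  have h2 : ∀ b, ∀ y ∈ o2 (centralizer ({c} : Set G)), y * rr ε (f b) (f' b) * y⁻¹ = rr ε (f b) (f' b) :=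
    fun b => hc.symm (Sit.tr h hw (hff b)) hco hsq (h1 b)
  have h3 : ∀ b b', ∀ y ∈ o2 (NN ε (f b) (f' b)), y * rr ε (f b') (f' b') * y⁻¹ = rr ε (f b') (f' b') := by
    intro b b' y hy
    by_cases hbb : b = b'
    · subst hbb
      have h4 : y * rr ε (f b) (f' b) = rr ε (f b) (f' b) * y := mem_centralizer_singleton_iff.mp (o2_le _ hy)
      rw [h4, mul_inv_cancel_right]
    · rcases h.acts (hff b) hy with h4 | h4
      · rw [rr_conj h4]
        rfl
      · rw [rr_conj h4, Equiv.swap_apply_of_ne_of_ne, Equiv.swap_apply_of_ne_of_ne]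
        · exact fun h5 => hbb (hf _ _ (Or.inr (Or.inl h5.symm)))
        · exact fun h5 => hbb (hf _ _ (Or.inr (Or.inr (Or.inr h5.symm))))
        · exact fun h5 => hbb (hf _ _ (Or.inl h5.symm))
        · exact fun h5 => hbb (hf _ _ (Or.inr (Or.inr (Or.inl h5.symm))))
  let F : Option (Fin t ⊕ Fin t') → G := fun b => b.elim c fun b => rr ε (f b) (f' b)
  have h4 := Sit.count h F (by
    rintro (_ | b) (_ | b') hbb
    · rfl
    · exact absurd hbb (hne _ _ (hff b'))
    · exact absurd hbb.symm (hne _ _ (hff b))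
    · have h5 : rr ε (f b) (f' b) = rr ε (f b') (f' b') := hbb
      rcases pair_eq hE (Sit.five h) (hff b) h5 with h6 | h6
      · exact congrArg some (hf b b' (Or.inl h6.1.symm))
      · exact congrArg some (hf b b' (Or.inr (Or.inr (Or.inl h6.1.symm)))))
    (by
      rintro (_ | b)
      · exact hc
      · exact Sit.tr h hw (hff b))
    (by
      rintro (_ | b) (_ | b') y hy
      · have h5 : y * c = c * y := mem_centralizer_singleton_iff.mp (o2_le _ hy)
        change y * c * y⁻¹ = c
        rw [h5, mul_inv_cancel_right]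
      · exact h2 b' y hy
      · exact h1 b y hy
      · exact h3 b b' y hy)
  rw [Fintype.card_option, Fintype.card_sum, Fintype.card_fin, Fintype.card_fin] at h4
  have h5 := hcard x
  omega

/-- **`N_G(V)` maps pairs to pairs.** -/
theorem Sit.duad (h : Sit S P m A ε) (hw : Mov ε) {g : G}
    (hg : g ∈ normalizer (zl (S : Subgroup G) P : Set G)) {i j : Fin (2 ^ m + 1)} (hij : i ≠ j) :
    ∃ k l, k ≠ l ∧ g * rr ε i j * g⁻¹ = rr ε k l :=
  Sit.pair_of_tr h hw ((Sit.tr h hw hij).conj hg)

omit [Finite G] in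
/-- The points lie in the subgroup generated by the pairs. -/
theorem zz_mem_closure {n : ℕ} {V L : Subgroup G} {δ : (Fin n → ZMod 2) → G} (hE : EvenSet n V L δ)
    (hn : n % 2 = 1) (h3 : 3 ≤ n) (i : Fin n) {D : Subgroup G} (hD : ∀ k l, rr δ k l ∈ D) : zz δ i ∈ D := by
  obtain ⟨j, hj⟩ : ∃ j : Fin n, j ≠ i := by
    by_contra hno
    push Not at hno
    have h5 := Finset.card_le_card (fun x _ => Finset.mem_singleton.mpr (hno x) :
      (Finset.univ : Finset (Fin n)) ⊆ {i})
    rw [Finset.card_univ, Fintype.card_fin, Finset.card_singleton] at h5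
    omega
  have h1 := compl_rr hE hj (fun t x => (t % 2 = 0 → x ∈ D) ∧ (t % 2 = 1 → zz δ i * x ∈ D))
    ⟨fun _ => one_mem _, fun h0 => by simp at h0⟩
    (by
      rintro k - - t x ⟨ha, hb⟩
      constructor
      · intro ht
        have h2 := mul_mem (hD k i) (hb (by omega))
        have e : rr δ k i * (zz δ i * x) = zz δ k * x := by
          unfold rr
          calc zz δ k * zz δ i * (zz δ i * x) = zz δ k * (zz δ i * zz δ i) * x := by group
            _ = _ := by rw [zz_sq hE, mul_one]
        rwa [e] at h2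
      · intro ht
        have h2 := mul_mem (hD i k) (ha (by omega))
        rwa [rr, mul_assoc] at h2)
  have h2 := h1.2 (by omega)
  have h3 := mul_mem h2 (inv_mem (hD j i))
  rwa [mul_inv_cancel_right] at h3

/-- **`N_G(V)` permutes the letters.** -/
theorem Sit.exists_perm (h : Sit S P m A ε) (hw : Mov ε) {g : G}
    (hg : g ∈ normalizer (zl (S : Subgroup G) P : Set G)) : ∃ π : Equiv.Perm (Fin (2 ^ m + 1)), Acts ε g π := by
  classical
  have hE := h.split.even
  have hodd : (2 ^ m + 1) % 2 = 1 := by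
    have hm := h.m2
    have : 2 ^ m = 2 * 2 ^ (m - 1) := by
      rw [← pow_succ']
      congr 1
      omega
    omega
  -- `g` normalises `A`
  have hgA : ∀ a ∈ A, g * a * g⁻¹ ∈ A := by
    have h1 : ∀ i, g * zz ε i * g⁻¹ ∈ A := fun i => by
      have h2 : zz ε i ∈ A.comap (MulAut.conj g).toMonoidHom :=
        zz_mem_closure hE hodd h.three i fun k l => by
          change g * rr ε k l * g⁻¹ ∈ A
          by_cases hkl : k = l
          · subst hkl
            have e : rr ε k k = 1 := zz_sq hE k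
            rw [e, mul_one, mul_inv_cancel]
            exact one_mem _
          · obtain ⟨k', l', -, h3⟩ := Sit.duad h hw hg hkl
            rw [h3]
            exact rr_mem hE _ _
      exact h2
    intro a ha
    obtain ⟨x, rfl⟩ := hE.surj a ha
    have h2 : ∀ s : Finset (Fin (2 ^ m + 1)), g * ε (∑ i ∈ s, Pi.single i (x i)) * g⁻¹ ∈ A := by
      intro s
      induction s using Finset.induction_on with
      | empty =>
        rw [Finset.sum_empty, hE.zero, mul_one, mul_inv_cancel]
        exact one_mem _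
      | insert k s hk ih =>
        rw [Finset.sum_insert hk, hE.add]
        have e : g * (ε (Pi.single k (x k)) * ε (∑ i ∈ s, Pi.single i (x i))) * g⁻¹ =
            (g * ε (Pi.single k (x k)) * g⁻¹) * (g * ε (∑ i ∈ s, Pi.single i (x i)) * g⁻¹) := by group
        rw [e]
        refine mul_mem ?_ ih
        rcases (show ∀ y : ZMod 2, y = 0 ∨ y = 1 by decide) (x k) with h3 | h3
        · rw [h3, Pi.single_zero, hE.zero, mul_one, mul_inv_cancel]
          exact one_mem _
        · rw [h3]
          exact h1 k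
    have h3 := h2 Finset.univ
    rwa [Finset.univ_sum_single] at h3
  -- the image of a point
  have key : ∀ i, ∃ j, g * zz ε i * g⁻¹ = zz ε j := by
    intro i
    obtain ⟨y, hy⟩ := hE.surj _ (hgA _ (zz_mem hE i))
    -- pairs crossing `y` come from pairs through `i`
    have hcross : ∀ a b, y a ≠ y b → ∃ c, c ≠ i ∧ g⁻¹ * rr ε a b * g = rr ε i c := by
      intro a b hab
      have hne : a ≠ b := fun h1 => hab (by rw [h1])
      obtain ⟨k, l, hkl, h1⟩ := Sit.duad h hw (inv_mem hg) hne
      rw [inv_inv] at h1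
      have h2 : (Pi.single i 1 : Fin (2 ^ m + 1) → ZMod 2) k ≠ (Pi.single i 1 : Fin (2 ^ m + 1) → ZMod 2) l := by
        intro h3
        apply hab
        rw [← Sit.move_iff h hw hne (one_mem (cv (S : Subgroup G) P)) y]
        have h4 := (Sit.move_iff h hw hkl (one_mem (cv (S : Subgroup G) P)) (Pi.single i 1)).mpr h3
        intro z hz
        rw [one_mul, hy]
        have h5 : g⁻¹ * z * g ∈ o2 (NN ε k l) := by
          have h6 := push (g := g⁻¹) hz
          rw [inv_inv, h1] at h6
          exact h6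
        have h6 := h4 _ h5
        rw [one_mul] at h6
        calc z * (g * zz ε i * g⁻¹) * z⁻¹ = g * (g⁻¹ * z * g * zz ε i * (g⁻¹ * z * g)⁻¹) * g⁻¹ := by group
          _ = g * zz ε i * g⁻¹ := congrArg (fun t => g * t * g⁻¹) h6
      by_cases hk : k = i
      · subst hk
        exact ⟨l, hkl.symm, h1⟩
      · by_cases hl : l = i
        · subst hl
          exact ⟨k, hk, by rw [h1, rr_symm hE]⟩
        · exfalso
          apply h2
          rw [Pi.single_eq_of_ne hk, Pi.single_eq_of_ne hl]
    -- no two disjoint crossing pairs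
    have hno : ∀ a b c d, a ≠ c → a ≠ d → b ≠ c → b ≠ d → y a ≠ y b → y c ≠ y d → False := by
      intro a b c d hac had hbc hbd hab hcd
      obtain ⟨k, hk, h1⟩ := hcross a b hab
      obtain ⟨l, hl, h2⟩ := hcross c d hcd
      have hcd' : c ≠ d := fun h3 => hcd (by rw [h3])
      have hab' : a ≠ b := fun h3 => hab (by rw [h3])
      -- `o2 (NN c d)` centralises `rr a b`
      have h3 : ∀ z ∈ o2 (NN ε c d), z * rr ε a b * z⁻¹ = rr ε a b := by
        intro z hz
        rcases h.acts hcd' hz with h4 | h4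
        · rw [rr_conj h4]
          rfl
        · rw [rr_conj h4, Equiv.swap_apply_of_ne_of_ne hac had, Equiv.swap_apply_of_ne_of_ne hbc hbd]
      -- so `o2 (NN i l)` centralises `rr i k`
      have h4 : ∀ z ∈ o2 (NN ε i l), z * rr ε i k * z⁻¹ = rr ε i k := by
        intro z hz
        have h5 : g * z * g⁻¹ ∈ o2 (NN ε c d) := by
          have h6 := push (g := g) hz
          have e : g * rr ε i l * g⁻¹ = rr ε c d := by
            rw [← h2]
            group
          rw [e] at h6
          exact h6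
        have h6 := h3 _ h5
        have e : rr ε a b = g * rr ε i k * g⁻¹ := by
          rw [← h1]
          group
        rw [e] at h6
        have h7 : g * (z * rr ε i k * z⁻¹) * g⁻¹ = g * rr ε i k * g⁻¹ := by
          calc g * (z * rr ε i k * z⁻¹) * g⁻¹ = g * z * g⁻¹ * (g * rr ε i k * g⁻¹) * (g * z * g⁻¹)⁻¹ := by group
            _ = _ := h6
        exact mul_left_cancel (mul_right_cancel h7)
      have h5 := (Sit.move_iff h hw (Ne.symm hl) (one_mem (cv (S : Subgroup G) P))
        (Pi.single i 1 + Pi.single k 1)).mp (by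
          intro z hz
          rw [one_mul, hE.add]
          exact h4 z hz)
      by_cases hkl : k = l
      · -- then the two pairs are equal
        subst hkl
        have h6 : rr ε a b = rr ε c d := by
          have h7 := h1.trans h2.symm
          exact mul_left_cancel (mul_right_cancel h7)
        rcases pair_eq hE (Sit.five h) hab' h6 with h7 | h7
        · exact hac h7.1.symm
        · exact hbc h7.1.symm
      · rw [Pi.add_apply, Pi.add_apply, Pi.single_eq_same, Pi.single_eq_of_ne (Ne.symm hk),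
          Pi.single_eq_of_ne hl, Pi.single_eq_of_ne (Ne.symm hkl)] at h5
        exact absurd h5 (by decide)
    -- `y` is not constant
    obtain ⟨a, b, hab⟩ : ∃ a b, y a ≠ y b := by
      by_contra hall
      push Not at hall
      have h1 : y = 0 ∨ y = 1 := by
        rcases (show ∀ t : ZMod 2, t = 0 ∨ t = 1 by decide) (y i) with h2 | h2
        · left
          funext k
          rw [hall k i, h2]
          rfl
        · right
          funext k
          rw [hall k i, h2]
          rfl
      have h2 := (hE.ker y).mpr h1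
      rw [hy] at h2
      have h3 : zz ε i = 1 := by
        have : g⁻¹ * (g * zz ε i * g⁻¹) * g = 1 := by rw [h2]; group
        calc zz ε i = g⁻¹ * (g * zz ε i * g⁻¹) * g := by group
          _ = 1 := this
      exact hE.single_ne_one h.three i h3
    -- all other letters have the value of `a`, or all have the value of `b`
    have hval : ∀ c, y c = y a ∨ y c = y b := by
      intro c
      rcases (show ∀ t : ZMod 2, t = 0 ∨ t = 1 by decide) (y a) with h1 | h1 <;>
      rcases (show ∀ t : ZMod 2, t = 0 ∨ t = 1 by decide) (y b) with h2 | h2 <;>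
      rcases (show ∀ t : ZMod 2, t = 0 ∨ t = 1 by decide) (y c) with h3 | h3 <;>
      rw [h1, h2] at hab <;> rw [h1, h2, h3] <;> simp at hab ⊢
    have hdone : ∀ a b, y a ≠ y b → (∀ c, c ≠ a → y c = y b) → g * zz ε i * g⁻¹ = zz ε a := by
      intro a b hab hc
      rw [← hy]
      unfold zz
      rw [hE.eq_iff]
      rcases (show ∀ t : ZMod 2, t = 0 ∨ t = 1 by decide) (y b) with h1 | h1
      · left
        funext c
        by_cases hca : c = a
        · subst hca
          rw [Pi.single_eq_same]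
          rcases (show ∀ t : ZMod 2, t = 0 ∨ t = 1 by decide) (y c) with h2 | h2
          · exact absurd (h2.trans h1.symm) hab
          · exact h2
        · rw [hc c hca, h1, Pi.single_eq_of_ne hca]
      · right
        funext c
        rw [Pi.add_apply, Pi.one_apply]
        by_cases hca : c = a
        · subst hca
          rw [Pi.single_eq_same]
          rcases (show ∀ t : ZMod 2, t = 0 ∨ t = 1 by decide) (y c) with h2 | h2
          · rw [h2]
            decide
          · exact absurd (h2.trans h1.symm) hab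
        · rw [hc c hca, h1, Pi.single_eq_of_ne hca]
          decide
    by_cases hA : ∀ c, c ≠ a → y c = y b
    · exact ⟨a, hdone a b hab hA⟩
    · push Not at hA
      obtain ⟨c, hca, hcb⟩ := hA
      have hcya : y c = y a := (hval c).resolve_right hcb
      refine ⟨b, hdone b a hab.symm fun d hdb => ?_⟩
      by_contra hda
      have hdyb : y d = y b := (hval d).resolve_left hda
      -- `a, c` have one value, `b, d` the other one
      refine hno a b c d (Ne.symm hca) ?_ ?_ (Ne.symm hdb) hab ?_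
      · rintro rfl
        exact hda rfl
      · rintro rfl
        exact hcb rfl
      · rw [hcya, hdyb]
        exact hab
  choose π hπ using key
  have hinj : Function.Injective π := by
    intro i j hij
    refine hE.single_inj h.three ?_
    have h1 : g * zz ε i * g⁻¹ = g * zz ε j * g⁻¹ := by rw [hπ, hπ, hij]
    exact mul_left_cancel (mul_right_cancel h1)
  let σ : Equiv.Perm (Fin (2 ^ m + 1)) := Equiv.ofBijective π (Finite.injective_iff_bijective.mp hinj)
  refine ⟨σ, fun x => ?_⟩
  have h2 : ∀ s : Finset (Fin (2 ^ m + 1)), g * ε (∑ i ∈ s, Pi.single i (x i)) * g⁻¹ =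
      ε (∑ i ∈ s, Pi.single (σ i) (x i)) := by
    intro s
    induction s using Finset.induction_on with
    | empty => rw [Finset.sum_empty, Finset.sum_empty, hE.zero, mul_one, mul_inv_cancel]
    | insert k s hk ih =>
      rw [Finset.sum_insert hk, Finset.sum_insert hk, hE.add, hE.add, ← ih]
      have e : g * ε (Pi.single k (x k)) * g⁻¹ = ε (Pi.single (σ k) (x k)) := by
        rcases (show ∀ y : ZMod 2, y = 0 ∨ y = 1 by decide) (x k) with h3 | h3
        · rw [h3, Pi.single_zero, Pi.single_zero, hE.zero, mul_one, mul_inv_cancel]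
        · rw [h3]
          exact hπ k
      rw [← e]
      group
  have h3 := h2 Finset.univ
  rw [Finset.univ_sum_single] at h3
  rw [h3]
  congr 1
  have h4 : ∑ i, Pi.single (σ i) (x i) = ∑ i, Pi.single i ((x ∘ σ.symm) i) := by
    rw [← Equiv.sum_comp σ (fun i => (Pi.single i ((x ∘ σ.symm) i) : Fin (2 ^ m + 1) → ZMod 2))]
    apply Finset.sum_congr rfl
    intro i _
    simp [Function.comp]
  rw [h4, Finset.univ_sum_single]

/-- `N_G(V)` normalises `A`. -/
theorem Sit.norm_A (h : Sit S P m A ε) (hw : Mov ε) :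
    normalizer (zl (S : Subgroup G) P : Set G) ≤ normalizer (A : Set G) := by
  intro g hg
  obtain ⟨π, hπ⟩ := Sit.exists_perm h hw hg
  exact acts_norm h.split.even hπ

/-- `N_G(V)` normalises `V₀`. -/
theorem Sit.norm_cv (h : Sit S P m A ε) (hw : Mov ε) :
    normalizer (zl (S : Subgroup G) P : Set G) ≤ normalizer (cv (S : Subgroup G) P : Set G) := by
  have hE := h.split.even
  have key : ∀ g ∈ normalizer (zl (S : Subgroup G) P : Set G), ∀ v ∈ cv (S : Subgroup G) P,
      g * v * g⁻¹ ∈ cv (S : Subgroup G) P := by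
    intro g hg v hv
    obtain ⟨c, hc, a, ha, h1⟩ := h.mul_eq (norm_conj hg (h.V0_le hv))
    obtain ⟨x, rfl⟩ := hE.surj a ha
    have h2 : ∀ k l, x k = x l := by
      intro k l
      by_cases hkl : k = l
      · rw [hkl]
      refine (Sit.move_iff h hw hkl hc x).mp fun y hy => ?_
      rw [← h1]
      obtain ⟨k', l', hkl', h3⟩ := Sit.duad h hw (inv_mem hg) hkl
      rw [inv_inv] at h3
      have h4 : g⁻¹ * y * g ∈ o2 (NN ε k' l') := by
        have h6 := push (g := g⁻¹) hy
        rw [inv_inv, h3] at h6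
        exact h6
      have h5 := h.comm_V0 hkl' h4 hv
      calc y * (g * v * g⁻¹) * y⁻¹ = g * (g⁻¹ * y * g * v) * (g⁻¹ * y * g)⁻¹ * g⁻¹ := by group
        _ = g * (v * (g⁻¹ * y * g)) * (g⁻¹ * y * g)⁻¹ * g⁻¹ := by rw [h5]
        _ = g * v * g⁻¹ := by group
    have h3 : ε x = 1 := by
      rw [hE.ker]
      rcases (show ∀ t : ZMod 2, t = 0 ∨ t = 1 by decide) (x 0) with h4 | h4
      · left
        funext k
        rw [h2 k 0, h4]
        rfl
      · right
        funext k
        rw [h2 k 0, h4]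
        rfl
    rw [h1, h3, mul_one]
    exact hc
  intro g hg
  rw [mem_normalizer_iff]
  refine fun v => ⟨key g hg v, fun hv => ?_⟩
  have h1 := key g⁻¹ (inv_mem hg) _ hv
  have h2 : g⁻¹ * (g * v * g⁻¹) * g⁻¹⁻¹ = v := by group
  rwa [h2] at h1

/-- `N_G(V)` induces on `V₀` a group of odd order. -/
theorem Sit.cent_of_sq (h : Sit S P m A ε) (hw : Mov ε) {g : G}
    (hg : g ∈ normalizer (zl (S : Subgroup G) P : Set G))
    (h2 : ∀ v ∈ cv (S : Subgroup G) P, g ^ 2 * v = v * g ^ 2) : ∀ v ∈ cv (S : Subgroup G) P, g * v = v * g := by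
  have hf : Fact (Nat.Prime 2) := ⟨Nat.prime_two⟩
  let L : Subgroup G := normalizer (zl (S : Subgroup G) P : Set G)
  let K : Subgroup G := L ⊓ centralizer (cv (S : Subgroup G) P : Set G)
  have hSL : (S : Subgroup G) ≤ L := Sit.S_le h
  have hSK : (S : Subgroup G) ≤ K := le_inf hSL fun s hs => mem_centralizer_iff.mpr fun v hv =>
    (h.V0_comm hv (h.par.le hs)).symm
  have hn : L ≤ normalizer (K : Set G) := by
    have key : ∀ a ∈ L, ∀ x ∈ K, a * x * a⁻¹ ∈ K := by
      intro a ha x hx
      refine ⟨L.mul_mem (L.mul_mem ha hx.1) (L.inv_mem ha), mem_centralizer_iff.mpr fun v hv => ?_⟩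
      have h3 := norm_conj' (Sit.norm_cv h hw ha) hv
      have h4 : a⁻¹ * v * a * x = x * (a⁻¹ * v * a) := mem_centralizer_iff.mp hx.2 _ h3
      calc v * (a * x * a⁻¹) = a * (a⁻¹ * v * a * x) * a⁻¹ := by group
        _ = a * (x * (a⁻¹ * v * a)) * a⁻¹ := by rw [h4]
        _ = a * x * a⁻¹ * v := by group
    intro a ha
    rw [mem_normalizer_iff]
    refine fun v => ⟨key a ha v, fun hv => ?_⟩
    have h1 := key a⁻¹ (inv_mem ha) _ hv
    have h2 : a⁻¹ * (a * v * a⁻¹) * a⁻¹⁻¹ = v := by group
    rwa [h2] at h1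
  have hN : (K.subgroupOf L).Normal := normal_subgroupOf_of_le_normalizer hn
  have hodd : ¬ 2 ∣ (K.subgroupOf L).index := by
    intro h3
    exact MinSimple.Basic.not_dvd_relIndex S hSL (h3.trans (relIndex_dvd_of_le_left L hSK))
  have h3 : (⟨g, hg⟩ : L) ^ (K.subgroupOf L).index ∈ K.subgroupOf L := pow_index_mem (K.subgroupOf L) _
  have h4 : (⟨g, hg⟩ : L) ^ 2 ∈ K.subgroupOf L := by
    rw [mem_subgroupOf]
    refine ⟨((⟨g, hg⟩ : L) ^ 2).2, mem_centralizer_iff.mpr fun v hv => (h2 v hv).symm⟩
  have h5 : (⟨g, hg⟩ : L) ∈ K.subgroupOf L := by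
    obtain ⟨t, ht⟩ : ∃ t, (K.subgroupOf L).index = 2 * t + 1 := ⟨(K.subgroupOf L).index / 2, by omega⟩
    rw [ht, pow_succ, pow_mul] at h3
    exact (Subgroup.mul_mem_cancel_left _ (pow_mem h4 t)).mp h3
  intro v hv
  exact (mem_centralizer_iff.mp (mem_subgroupOf.mp h5).2 v hv).symm

/-- **Every transvection of `N_G(V)` on `V` is a transposition.** -/
theorem Sit.transv (h : Sit S P m A ε) (hw : Mov ε) {g c : G}
    (hg : g ∈ normalizer (zl (S : Subgroup G) P : Set G))
    (hc : ∀ v ∈ zl (S : Subgroup G) P, g * v * g⁻¹ = v ∨ g * v * g⁻¹ = v * c)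
    (hm : ∃ v ∈ zl (S : Subgroup G) P, g * v * g⁻¹ ≠ v) :
    ∃ i j, i ≠ j ∧ c = rr ε i j ∧ Acts ε g (Equiv.swap i j) := by
  obtain ⟨π, hπ⟩ := Sit.exists_perm h hw hg
  refine Sit.of_acts h hπ ?_ hc hm
  obtain ⟨v, hv, hvne⟩ := hm
  have hcV : c ∈ zl (S : Subgroup G) P := by
    have h1 := (hc v hv).resolve_left hvne
    have h2 := norm_conj hg hv
    rw [h1] at h2
    have h3 := mul_mem (inv_mem hv) h2
    rwa [inv_mul_cancel_left] at h3
  have hcc : c * c = 1 := by
    rw [← pow_two]
    exact h.V_sq hcV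
  have hgc : g * c * g⁻¹ = c := by
    rcases hc c hcV with h1 | h1
    · exact h1
    · rw [hcc] at h1
      have h2 : c = 1 := by
        calc c = g⁻¹ * (g * c * g⁻¹) * g := by group
          _ = 1 := by rw [h1]; group
      rw [h2]
      group
  refine Sit.cent_of_sq h hw hg fun w hw' => ?_
  have hwV := h.V0_le hw'
  have h1 : g ^ 2 * w * (g ^ 2)⁻¹ = w := by
    have e : g ^ 2 * w * (g ^ 2)⁻¹ = g * (g * w * g⁻¹) * g⁻¹ := by
      rw [pow_two]
      group
    rw [e]
    rcases hc w hwV with h2 | h2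
    · rw [h2, h2]
    · rw [h2]
      calc g * (w * c) * g⁻¹ = (g * w * g⁻¹) * (g * c * g⁻¹) := by group
        _ = w * c * c := by rw [h2, hgc]
        _ = w := by rw [mul_assoc, hcc, mul_one]
  rw [mul_inv_eq_iff_eq_mul] at h1
  exact h1

end Cfsg.Agent.Omega.F4Leaf.Exit.Dua
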